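import Mathlib
import Groth.Prelude.Def_RegImm
import Groth.Prelude.Def_AlgSpMor6
import Groth.Agent.Lib.Helper4.KosH1
import Groth.Agent.Lib.Helper4.QReg1

/-!
# Kinds of regular immersions: implications (helper2)
-/

set_option autoImplicit false

open CategoryTheory CategoryTheory.Limits AlgebraicGeometry Opposite

namespace Groth.Agent.Helper2.RegImmKinds
universe u

theorem seq_h1_of_koszul (R : Type u) [CommRing R] (rs : List R)
    (h : RegImm.Kind.koszul.Seq R rs) : RegImm.Kind.h1.Seq R rs :=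
  Groth.Agent.Lib.Helper4.KosH1.isH1Regular_of_koszul rs h

theorem seq_quasi_of_h1 (R : Type u) [CommRing R] (rs : List R)
    (h : RegImm.Kind.h1.Seq R rs) : RegImm.Kind.quasi.Seq R rs :=
  Groth.Agent.Lib.Helper4.QReg1.S2103_main rs.get h

/-- Monotonicity of regular immersions in the kind of sequence. -/
theorem isRegularImmersion_mono {k k' : RegImm.Kind}
    (hkk : ∀ (R : Type u) [CommRing R] (rs : List R), k.Seq R rs → k'.Seq R rs)
    {Z X : Scheme.{u}} (i : Z ⟶ X) (h : RegImm.IsRegularImmersion k i) :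
    RegImm.IsRegularImmersion k' i := by
  refine ⟨h.1, fun z => ?_⟩
  obtain ⟨U, hz, hcl, rs, hrs, hker⟩ := h.2 z
  exact ⟨U, hz, hcl, rs, hkk _ rs hrs, hker⟩

variable {S : Scheme.{u}}

theorem isRegImmMor_mono {k k' : RegImm.Kind}
    (hkk : ∀ (R : Type u) [CommRing R] (rs : List R), k.Seq R rs → k'.Seq R rs)
    {F G : AlgSp.Sp S} (f : F ⟶ G) (h : AlgSp.IsRegImmMor k f) : AlgSp.IsRegImmMor k' f := by
  refine ⟨h.1, fun V W b fst snd hb sq => ?_⟩
  exact isRegularImmersion_mono hkk snd.left (h.2 b fst snd hb sq)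

end Groth.Agent.Helper2.RegImmKinds
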